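import Groth.Agent.MonoLocus.Open
import Groth.Agent.FactLocus.Locus

/-!
The locus where a homomorphism out of a group of multiplicative type and finite type has trivial kernel is open.
-/

universe u

open CategoryTheory Limits MonoidalCategory CartesianMonoidalCategory AlgebraicGeometry
open scoped MonObj
open CoactBr Groth.Agent.DiagGrp Groth.Agent.DiagAction Groth.Agent.CentralDescent Groth.Agent.FactLocus

set_option linter.style.haveILetI false
set_option backward.isDefEq.respectTransparency false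

noncomputable section

namespace Groth.Agent.MonoLocus

variable {S : Scheme.{u}} {H G : Over S} [GrpObj H] [GrpObj G] {u : H ⟶ G}

/-- the kernel of `u` is trivial above `t` -/
def KTriv (u : H ⟶ G) {T : Scheme.{u}} (t : T ⟶ S) : Prop :=
  ∀ (Y : Over S) (_ : Y ⟶ Over.mk t) (h : Y ⟶ H), h ≫ u = 1 → h = 1

theorem KTriv.comp {T T' : Scheme.{u}} {t : T ⟶ S} (k : T' ⟶ T) (h : KTriv u t) : KTriv u (k ≫ t) :=
  fun Y p y hy => h Y (p ≫ Over.homMk k) y hy

theorem kTriv_of_cover {T T' : Scheme.{u}} (t : T ⟶ S) (q : T' ⟶ T) [Flat q] [Surjective q]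
    (h : KTriv u (q ≫ t)) : KTriv u t := by
  intro Y p y hy
  let Y' : Over S := Over.mk (pullback.fst p.left q ≫ Y.hom)
  let k : Y' ⟶ Y := Over.homMk (pullback.fst p.left q)
  let p' : Y' ⟶ Over.mk (q ≫ t) := Over.homMk (pullback.snd p.left q) (by
    show pullback.snd p.left q ≫ q ≫ t = pullback.fst p.left q ≫ Y.hom
    rw [← Over.w p, ← Category.assoc, ← pullback.condition, Category.assoc]
    rfl)
  haveI : Epi (pullback.fst p.left q) := Flat.epi_of_flat_of_surjective _
  have e := h Y' p' (k ≫ y) (by rw [Category.assoc, hy, MonObj.comp_one])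
  rw [← MonObj.comp_one k] at e
  apply Over.OverMorphism.ext
  rw [← cancel_epi (pullback.fst p.left q)]
  exact congrArg CommaMorphism.left e

theorem kTriv_of_local {T : Scheme.{u}} (t : T ⟶ S)
    (h : ∀ x : T, ∃ U : T.Opens, x ∈ U ∧ KTriv u (U.ι ≫ t)) : KTriv u t := by
  intro Y p y hy
  apply Over.OverMorphism.ext
  choose U hU hUt using h
  refine (Y.left.openCoverOfIsOpenCover (fun x => p.left ⁻¹ᵁ U x) (eq_top_iff.mpr fun z _ =>
    TopologicalSpace.Opens.mem_iSup.mpr ⟨p.left z, hU (p.left z)⟩)).hom_ext _ _ fun x => ?_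
  let Y' : Over S := Over.mk ((p.left ⁻¹ᵁ U x).ι ≫ Y.hom)
  let k : Y' ⟶ Y := Over.homMk (p.left ⁻¹ᵁ U x).ι
  let p' : Y' ⟶ Over.mk ((U x).ι ≫ t) := Over.homMk (p.left ∣_ U x) (by
    show (p.left ∣_ U x) ≫ (U x).ι ≫ t = (p.left ⁻¹ᵁ U x).ι ≫ Y.hom
    rw [← Category.assoc, morphismRestrict_ι, Category.assoc]
    congr 1
    exact Over.w p)
  have e := hUt x Y' p' (k ≫ y) (by rw [Category.assoc, hy, MonObj.comp_one])
  rw [← MonObj.comp_one k] at e
  exact congrArg CommaMorphism.left e

theorem kTriv_residue_iff {K : Type u} [Field K] (g : Spec (CommRingCat.of K) ⟶ S)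
    (z : Spec (CommRingCat.of K)) : KTriv u g ↔ KTriv u (S.fromSpecResidueField (g z)) := by
  obtain ⟨⟨x, φ⟩, hxφ⟩ : ∃ p, (Scheme.SpecToEquivOfField K S).symm p = g :=
    ⟨Scheme.SpecToEquivOfField K S g, Equiv.symm_apply_apply _ _⟩
  have hg : Spec.map φ ≫ S.fromSpecResidueField x = g := hxφ
  have hx : g z = x := by
    rw [← hg, Scheme.Hom.comp_apply, Scheme.fromSpecResidueField_apply]
  rw [hx, ← hg]
  haveI : Surjective (Spec.map φ) := ⟨fun y => ⟨z, Subsingleton.elim _ _⟩⟩
  haveI : Flat (Spec.map φ) := by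
    rw [HasRingHomProperty.Spec_iff (P := @Flat)]
    letI := φ.hom.toAlgebra
    letI : Field (S.residueField x) := inferInstance
    exact RingHom.flat_algebraMap_iff.mpr (inferInstanceAs (Module.Flat (S.residueField x) K))
  exact ⟨fun h => kTriv_of_cover _ (Spec.map φ) h, fun h => h.comp _⟩

theorem mono_map_iff [IsMonHom u] {T : Scheme.{u}} (t : T ⟶ S) :
    Mono ((Over.pullback t).map u).left ↔ KTriv u t := by
  constructor
  · intro hm Y p y hy
    haveI : Mono ((Over.pullback t).map u) := Over.mono_of_mono_left _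
    let Z : Over T := Over.mk p.left
    let i : (Over.map t).obj Z ≅ Y := Over.isoMk (Iso.refl _) ((Category.id_comp _).trans (Over.w p).symm)
    have e : upP t (i.hom ≫ y) ≫ (Over.pullback t).map u = 1 ≫ (Over.pullback t).map u := by
      apply (Over.mapPullbackAdj t).homEquiv _ _ |>.symm.injective
      show downP t _ = downP t _
      rw [downP_comp_map, downP_comp_map, downP_upP, Category.assoc, hy, MonObj.comp_one, downP_one, one_comp']
    have e2 := congrArg (downP t) ((cancel_mono ((Over.pullback t).map u)).mp e)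
    rw [downP_upP, downP_one] at e2
    rw [← cancel_epi i.hom, e2, MonObj.comp_one]
  · intro h
    haveI : Mono ((Over.pullback t).map u) := ⟨fun {Z} a b hab => by
      apply (Over.mapPullbackAdj t).homEquiv _ _ |>.symm.injective
      show downP t a = downP t b
      have e := congrArg (downP t) hab
      rw [downP_comp_map, downP_comp_map] at e
      have := h ((Over.map t).obj Z) (Over.homMk Z.hom rfl) (downP t a * (downP t b)⁻¹) (by
        rw [mul_comp', e, ← mul_comp', mul_inv_cancel, one_comp'])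
      exact mul_inv_eq_one.mp this⟩
    exact inferInstanceAs (Mono ((Over.forget T).map ((Over.pullback t).map u)))

section Chart

variable [IsMonHom u] [IsSeparated G.hom] {A : Type u} [CommRing A] (v : Spec (CommRingCat.of A) ⟶ S) {M : Type}
  [CommGroup M] (e : sp A (MonoidAlgebra A M) ⟶ Red.bc v H) [IsMonHom e] [IsIso e]

variable (u) in
theorem exists_kernel_ideal : ∃ I : Ideal (MonoidAlgebra A M),
    ∀ (B : Type u) [CommRing B] [Algebra A B] (k : MonoidAlgebra A M →ₐ[A] B),
      I ≤ RingHom.ker k ↔ downP v (pt k ≫ e) ≫ u = 1 := by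
  have hηw : (η[G] : 𝟙_ _ ⟶ G).left ≫ G.hom = 𝟙 S := Over.w (η[G] : 𝟙_ _ ⟶ G)
  haveI : IsClosedImmersion (η[G] : 𝟙_ _ ⟶ G).left := by
    haveI : IsClosedImmersion ((η[G] : 𝟙_ _ ⟶ G).left ≫ G.hom) := by rw [hηw]; exact inferInstanceAs (IsClosedImmersion (𝟙 S))
    exact IsClosedImmersion.of_comp _ G.hom
  obtain ⟨I, -, hI⟩ := exists_ker_criterion (pullback.fst ((downP v e).left ≫ u.left) (η[G] : 𝟙_ _ ⟶ G).left)
  refine ⟨I, fun B _ _ k => ?_⟩
  show I ≤ RingHom.ker (k : MonoidAlgebra A M →+* B) ↔ _
  rw [← hI]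
  have hleft : (downP v (pt k ≫ e) ≫ u).left =
      Spec.map (CommRingCat.ofHom (k : MonoidAlgebra A M →+* B)) ≫ (downP v e).left ≫ u.left := by
    rw [downP_comp, Over.comp_left, Over.comp_left, Category.assoc]
    rfl
  have hone : (1 : (Over.map v).obj (sp A B) ⟶ G).left =
      ((Over.map v).obj (sp A B)).hom ≫ (η[G] : 𝟙_ _ ⟶ G).left := by
    rw [Hom.one_def, Over.comp_left]
    congr 1
  constructor
  · rintro ⟨e', he'⟩
    apply Over.OverMorphism.ext
    have h1 : (downP v (pt k ≫ e) ≫ u).left = (e' ≫ pullback.snd _ _) ≫ (η[G] : 𝟙_ _ ⟶ G).left := by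
      rw [hleft, Category.assoc, ← pullback.condition, reassoc_of% he']
    have h2 : e' ≫ pullback.snd _ _ = ((Over.map v).obj (sp A B)).hom := by
      have h3 := Over.w (downP v (pt k ≫ e) ≫ u)
      rw [h1, Category.assoc, hηw] at h3
      exact (Category.comp_id _).symm.trans h3
    rw [h1, h2, hone]
  · intro hk
    refine ⟨pullback.lift (Spec.map (CommRingCat.ofHom (k : MonoidAlgebra A M →+* B)))
      ((Over.map v).obj (sp A B)).hom ?_, pullback.lift_fst _ _ _⟩
    rw [← hleft, hk, hone]

end Chart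

theorem pt_lift_one {R : Type u} [CommRing R] {N : Type} [CommGroup N] {C : Type u} [CommRing C] [Algebra R C] :
    pt (MonoidAlgebra.lift R C N (1 : N →* C)) = (1 : sp R C ⟶ sp R (MonoidAlgebra R N)) := by
  have h2 := pt_conv (MonoidAlgebra.lift R C N (1 : N →* C)) (MonoidAlgebra.lift R C N (1 : N →* C))
  rw [show conv (MonoidAlgebra.lift R C N (1 : N →* C)) (MonoidAlgebra.lift R C N (1 : N →* C)) =
    MonoidAlgebra.lift R C N (1 : N →* C) from algHom_ext_single fun m => by simp] at h2
  exact left_eq_mul.mp h2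

theorem augI_le_ker_iff {R : Type u} [CommRing R] {N : Type} [CommGroup N] {C : Type u} [CommRing C] [Algebra R C]
    (k : MonoidAlgebra R N →ₐ[R] C) : augI R N ≤ RingHom.ker k ↔ pt k = 1 := by
  rw [← pt_lift_one]
  constructor
  · intro h
    congr 1
    refine algHom_ext_single fun m => ?_
    have := h (single_sub_one_mem_augI R m)
    rw [RingHom.mem_ker, map_sub, map_one, sub_eq_zero] at this
    simp [this]
  · intro h
    rw [pt_injective h]
    refine augI_le_span R N _ fun m => ?_
    rw [RingHom.mem_ker, map_sub, MonoidAlgebra.lift_single,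
      show (1 : MonoidAlgebra R N) = MonoidAlgebra.single 1 1 from MonoidAlgebra.one_def,
      MonoidAlgebra.lift_single, MonoidHom.one_apply, MonoidHom.one_apply, sub_self]

theorem exists_open_kTriv (hH : SGA3x.IsMultTypeFT H) [IsSeparated G.hom] [IsMonHom u] :
    ∃ U : S.Opens, (∀ s : S, s ∈ U ↔ KTriv u (S.fromSpecResidueField s)) ∧ KTriv u U.ι := by
  classical
  obtain ⟨S', f, _, _, hcov, hloc⟩ := exists_common_cover hH hH
  let T : Set S := {s | KTriv u (S.fromSpecResidueField s)}
  have hA : ∀ q : S', f q ∈ T → ∃ O : S'.Opens, q ∈ O ∧ KTriv u (O.ι ≫ f) := by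
    intro q hq
    obtain ⟨V, hV, M, M', _, _, hqV, hM, hM', hchart⟩ := hloc q
    let v := hV.fromSpec ≫ f
    obtain ⟨⟨E₀⟩, -⟩ := hchart Γ(S', V)
    have hv : Spec.map (CommRingCat.ofHom (algebraMap Γ(S', V) Γ(S', V))) ≫ v = v := by
      rw [show CommRingCat.ofHom (algebraMap Γ(S', V) Γ(S', V)) = 𝟙 _ from rfl, Spec.map_id, Category.id_comp]
    obtain ⟨c₀⟩ := bc_congr_grp hv H
    let E := c₀.symm ≪≫ E₀
    let e : sp Γ(S', V) (MonoidAlgebra Γ(S', V) M) ⟶ Red.bc v H := E.inv.hom.hom
    haveI : IsMonHom e := E.inv.hom.isMonHom_hom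
    haveI : IsIso e := ((Grp.forget _).mapIso E).isIso_inv
    obtain ⟨I, hI⟩ := exists_kernel_ideal u v e
    have hIaug : I ≤ augI Γ(S', V) M := by
      refine (hI Γ(S', V) (MonoidAlgebra.lift _ _ M (1 : M →* Γ(S', V)))).mpr ?_
      rw [pt_lift_one, one_comp', downP_one, one_comp']
    have hconv : ConvClosed I := fun C _ _ x y hx hy => by
      refine (hI C _).mpr ?_
      rw [pt_conv, mul_comp', downP_mul, mul_comp', (hI C x).mp hx, (hI C y).mp hy, _root_.mul_one]
    obtain ⟨P, hP⟩ := hV.range_fromSpec.ge hqV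
    let p : PrimeSpectrum Γ(S', V) := P
    let g := Spec.map (CommRingCat.ofHom (algebraMap Γ(S', V) p.asIdeal.ResidueField)) ≫ v
    have hgz : g (default : PrimeSpectrum p.asIdeal.ResidueField) = f q := by
      simp only [g, v, Scheme.Hom.comp_apply]
      rw [← hP]
      congr 2
      refine PrimeSpectrum.ext ?_
      show (default : PrimeSpectrum p.asIdeal.ResidueField).asIdeal.comap (algebraMap _ _) = p.asIdeal
      rw [show (default : PrimeSpectrum p.asIdeal.ResidueField).asIdeal = ⊥ from
        ((default : PrimeSpectrum p.asIdeal.ResidueField).asIdeal.eq_bot_or_top).resolve_right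
          (default : PrimeSpectrum p.asIdeal.ResidueField).isPrime.ne_top]
      exact Ideal.ker_algebraMap_residueField p.asIdeal
    have hκ : KTriv u g := by rw [kTriv_residue_iff g (default : PrimeSpectrum p.asIdeal.ResidueField), hgz]; exact hq
    let L := p.asIdeal.ResidueField
    let φ : MonoidAlgebra Γ(S', V) M →+* MonoidAlgebra L M := MonoidAlgebra.mapRingHom M (algebraMap Γ(S', V) L)
    have hhyp : HypAt I p.asIdeal := by
      have hle : augI Γ(S', V) M ≤ (I.map φ).comap φ := by
        let C := MonoidAlgebra L M ⧸ I.map φ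
        letI : Algebra Γ(S', V) C := ((algebraMap L C).comp (algebraMap Γ(S', V) L)).toAlgebra
        let k : MonoidAlgebra Γ(S', V) M →ₐ[Γ(S', V)] C :=
          { (Ideal.Quotient.mk (I.map φ)).comp φ with
            commutes' := fun r => by
              show Ideal.Quotient.mk (I.map φ) (φ (algebraMap _ _ r)) = _
              rw [show φ (algebraMap _ _ r) = algebraMap L (MonoidAlgebra L M) (algebraMap _ L r) by simp [φ]]
              rfl }
        have hk : I ≤ RingHom.ker k := fun x hx => Ideal.Quotient.eq_zero_iff_mem.mpr (Ideal.mem_map_of_mem φ hx)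
        let pY : (Over.map v).obj (sp Γ(S', V) C) ⟶ Over.mk g :=
          Over.homMk (Spec.map (CommRingCat.ofHom (algebraMap L C))) (by
            show Spec.map _ ≫ Spec.map _ ≫ v = Spec.map _ ≫ v
            rw [← Category.assoc, ← Spec.map_comp, ← CommRingCat.ofHom_comp]
            rfl)
        have h1 := hκ _ pY _ ((hI C k).mp hk)
        have h2 : pt k = 1 := by
          rw [← cancel_mono e, one_comp']
          apply (Over.mapPullbackAdj v).homEquiv _ _ |>.symm.injective
          show downP v _ = downP v _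
          rw [h1, downP_one]
        intro x hx
        exact (Ideal.Quotient.eq_zero_iff_mem (I := I.map φ)).mp ((augI_le_ker_iff k).mpr h2 hx : Ideal.Quotient.mk (I.map φ) (φ x) = 0)
      intro x hx
      obtain ⟨a, ha, j, hj, ej⟩ := FactLocus.exists_scalar_mem (algebraMap Γ(S', V) L) p.asIdeal (fun b => by
        obtain ⟨b', rfl⟩ := IsLocalRing.residue_surjective b
        obtain ⟨⟨y, s, hs⟩, hb⟩ := IsLocalization.surj p.asIdeal.primeCompl b'
        refine ⟨y, s, hs, ?_⟩
        have := congrArg (IsLocalRing.residue (Localization.AtPrime p.asIdeal)) hb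
        rw [map_mul] at this
        exact this) I (φ x) (hle hx)
      refine ⟨a, ha, ?_⟩
      have : MonoidAlgebra.single 1 a * x = j + (MonoidAlgebra.single 1 a * x - j) := by ring
      rw [this]
      refine add_mem (Ideal.mem_sup_left hj) (Ideal.mem_sup_right (sub_mem_of_coeff _ fun m => ?_))
      have h2 : φ (MonoidAlgebra.single 1 a * x - j) = 0 := by
        rw [map_sub, map_mul, ej, show φ (MonoidAlgebra.single 1 a) = MonoidAlgebra.single 1 (algebraMap _ L a) by simp [φ],
          _root_.mul_comm, sub_self]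
      have h3 := congrArg (fun w => w.coeff m) h2
      simp only [φ, MonoidAlgebra.coeff_mapRingHom, MonoidAlgebra.coeff_zero, Finsupp.zero_apply] at h3
      exact Ideal.algebraMap_residueField_eq_zero.mp h3
    obtain ⟨a, ha, hann⟩ := exists_scalar_mem_annI hIaug hconv p.asIdeal hhyp
    let o := Spec.map (CommRingCat.ofHom (algebraMap Γ(S', V) (Localization.Away a))) ≫ hV.fromSpec
    haveI : IsOpenImmersion (Spec.map (CommRingCat.ofHom (algebraMap Γ(S', V) (Localization.Away a)))) :=
      IsOpenImmersion.of_isLocalization a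
    haveI : IsOpenImmersion o := inferInstance
    have htr : KTriv u (o ≫ f) := by
      intro Y pY y hy
      apply Over.OverMorphism.ext
      refine Y.left.affineCover.hom_ext _ _ fun j => ?_
      let U := Y.left.affineCover.X j
      let g₀ : Spec Γ(U, ⊤) ⟶ Spec (CommRingCat.of (Localization.Away a)) :=
        U.isoSpec.inv ≫ Y.left.affineCover.f j ≫ pY.left
      let α : Γ(S', V) →+* Γ(U, ⊤) := (Spec.preimage g₀).hom.comp (algebraMap Γ(S', V) (Localization.Away a))
      letI : Algebra Γ(S', V) Γ(U, ⊤) := α.toAlgebra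
      let q' : (Over.map v).obj (sp Γ(S', V) Γ(U, ⊤)) ⟶ Y := Over.homMk (U.isoSpec.inv ≫ Y.left.affineCover.f j) (by
        show _ = Spec.map (CommRingCat.ofHom α) ≫ v
        simp only [α]
        rw [CommRingCat.ofHom_comp, Spec.map_comp, CommRingCat.ofHom_hom, Spec.map_preimage]
        simp only [g₀, v, Category.assoc]
        congr 2
        rw [← Over.w pY]
        simp [o])
      obtain ⟨k, hk⟩ := pt_surjective (upP v (q' ≫ y) ≫ inv e)
      have hk' : downP v (pt k ≫ e) = q' ≫ y := by rw [hk, Category.assoc, IsIso.inv_hom_id, Category.comp_id, downP_upP]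
      have hkI : I ≤ RingHom.ker k := (hI _ k).mpr (by rw [hk', Category.assoc, hy, MonObj.comp_one])
      have haug : augI Γ(S', V) M ≤ RingHom.ker k := fun x hx => by
        have h1 : k (MonoidAlgebra.single 1 a * x) = 0 := hkI (hann x hx)
        rw [map_mul, show k (MonoidAlgebra.single 1 a) = α a from k.commutes a] at h1
        exact ((IsLocalization.Away.algebraMap_isUnit a).map (Spec.preimage g₀).hom).mul_right_eq_zero.mp h1
      have h1 : q' ≫ y = 1 := by rw [← hk', (augI_le_ker_iff k).mp haug, one_comp', downP_one]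
      rw [← cancel_epi U.isoSpec.inv]
      have h2 : U.isoSpec.inv ≫ Y.left.affineCover.f j ≫ y.left =
          U.isoSpec.inv ≫ Y.left.affineCover.f j ≫ (1 : Y ⟶ H).left := by
        have h4 : (q' ≫ y).left = (q' ≫ (1 : Y ⟶ H)).left := by rw [h1, MonObj.comp_one]
        simp only [Over.comp_left, q', Over.homMk_left, Category.assoc] at h4
        exact h4
      exact h2
    refine ⟨o.opensRange, ?_, ?_⟩
    · obtain ⟨z, hz⟩ := (PrimeSpectrum.localization_away_comap_range (Localization.Away a) a).ge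
        (show p ∈ (PrimeSpectrum.basicOpen a : Set (PrimeSpectrum Γ(S', V))) from ha)
      exact ⟨z, (congrArg hV.fromSpec hz).trans hP⟩
    · rw [← o.isoOpensRange_inv_comp, Category.assoc]
      exact htr.comp _
  have hTopen : IsOpen T := by
    refine FactLocus.isOpen_of_preimage f hcov (isOpen_iff_forall_mem_open.mpr fun q hq => ?_)
    obtain ⟨O, hqO, hO⟩ := hA q hq
    refine ⟨O, fun q' hq' => ?_, O.isOpen, hqO⟩
    show KTriv u (S.fromSpecResidueField (f q'))
    obtain ⟨z, hz⟩ : ∃ z : (O : Scheme.{u}), O.ι z = q' := ⟨⟨q', hq'⟩, rfl⟩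
    let g : Spec ((O : Scheme.{u}).residueField z) ⟶ S := (O : Scheme.{u}).fromSpecResidueField z ≫ O.ι ≫ f
    let w : Spec ((O : Scheme.{u}).residueField z) := IsLocalRing.closedPoint ((O : Scheme.{u}).residueField z)
    have hw : g w = f q' := by
      simp only [g, Scheme.Hom.comp_apply]
      erw [Scheme.fromSpecResidueField_apply]
      rw [hz]
    rw [← hw]
    exact (kTriv_residue_iff g w).mp (hO.comp _)
  let U : S.Opens := ⟨T, hTopen⟩
  refine ⟨U, fun s => Iff.rfl, ?_⟩
  haveI : Flat (f ∣_ U) := IsZariskiLocalAtTarget.restrict (P := @Flat) inferInstance U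
  haveI : Surjective (f ∣_ U) := IsZariskiLocalAtTarget.restrict (P := @Surjective) inferInstance U
  refine kTriv_of_cover U.ι (f ∣_ U) ?_
  rw [morphismRestrict_ι]
  refine kTriv_of_local _ fun x => ?_
  obtain ⟨O, hqO, hO⟩ := hA ((f ⁻¹ᵁ U).ι x) x.2
  refine ⟨(f ⁻¹ᵁ U).ι ⁻¹ᵁ O, hqO, ?_⟩
  let k := IsOpenImmersion.lift O.ι (((f ⁻¹ᵁ U).ι ⁻¹ᵁ O).ι ≫ (f ⁻¹ᵁ U).ι) (by
    rintro _ ⟨y, rfl⟩; exact (Scheme.Opens.range_ι O).ge y.2)
  have := hO.comp k
  rw [← Category.assoc k, IsOpenImmersion.lift_fac, Category.assoc] at this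
  exact this

end Groth.Agent.MonoLocus
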