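import Groth.Agent.FactLocus.Algebra
import Groth.Agent.DiagGrp.Hom
import Groth.Agent.DiagAction.Algebra

/-!
Over a field a closed subgroup of `D(M)` is `D(M/N)`; hence it is trivial as soon as it meets all the torsion
subgroups trivially.
-/

universe u

open Groth.Agent.DiagGrp MonoidAlgebra
open scoped TensorProduct

set_option linter.style.haveILetI false
set_option backward.isDefEq.respectTransparency false

noncomputable section

namespace Groth.Agent.MonoLocus

open Groth.Agent.FactLocus (Qn)

/-- the augmentation ideal -/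
abbrev augI (A : Type u) [CommRing A] (M : Type) [CommGroup M] : Ideal (MonoidAlgebra A M) :=
  RingHom.ker (MonoidAlgebra.lift A A M (1 : M →* A))

/-- the points killing `I` are closed under products -/
def ConvClosed {A : Type u} [CommRing A] {M : Type} [CommGroup M] (I : Ideal (MonoidAlgebra A M)) : Prop :=
  ∀ (C : Type u) [CommRing C] [Algebra A C] (x y : MonoidAlgebra A M →ₐ[A] C),
    I ≤ RingHom.ker x → I ≤ RingHom.ker y → I ≤ RingHom.ker (conv x y)

theorem mem_augI_iff {A : Type u} [CommRing A] {M : Type} [CommGroup M] (g : MonoidAlgebra A M) :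
    g ∈ augI A M ↔ MonoidAlgebra.lift A A M (1 : M →* A) g = 0 := Iff.rfl

theorem single_sub_one_mem_augI (A : Type u) [CommRing A] {M : Type} [CommGroup M] (m : M) :
    single m 1 - 1 ∈ augI A M := by
  rw [mem_augI_iff, map_sub, MonoidAlgebra.lift_single, show (1 : MonoidAlgebra A M) = single 1 1 from MonoidAlgebra.one_def,
    MonoidAlgebra.lift_single, MonoidHom.one_apply, MonoidHom.one_apply, sub_self]

theorem augI_le_span (A : Type u) [CommRing A] (M : Type) [CommGroup M] (J : Ideal (MonoidAlgebra A M))
    (hJ : ∀ m : M, single m 1 - 1 ∈ J) : augI A M ≤ J := by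
  intro g hg
  rw [mem_augI_iff] at hg
  have key : ∀ g : MonoidAlgebra A M, g - algebraMap A _ (MonoidAlgebra.lift A A M (1 : M →* A) g) ∈ J := by
    intro g
    induction g using MonoidAlgebra.induction_linear with
    | zero => simp
    | add x y hx hy =>
      rw [map_add, map_add, add_sub_add_comm]
      exact add_mem hx hy
    | single m r =>
      have : single m r - algebraMap A _ (MonoidAlgebra.lift A A M (1 : M →* A) (single m r)) =
          algebraMap A (MonoidAlgebra A M) r * (single m 1 - 1) := by
        simp [mul_sub, MonoidAlgebra.coe_algebraMap, single_mul_single]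
      rw [this]
      exact Ideal.mul_mem_left _ _ (hJ m)
  have := key g
  rwa [hg, map_zero, sub_zero] at this

variable {L : Type u} [Field L] {M : Type} [CommGroup M] {I : Ideal (MonoidAlgebra L M)}

/-- the product of two points of the subgroup -/
theorem exists_prod_point (hI : ConvClosed I) (C : Type u) [CommRing C] [Algebra L C]
    (x y : (MonoidAlgebra L M ⧸ I) →ₐ[L] C) : ∃ D : (MonoidAlgebra L M ⧸ I) →ₐ[L] C,
      ∀ m : M, D (Ideal.Quotient.mk I (single m 1)) =
        x (Ideal.Quotient.mk I (single m 1)) * y (Ideal.Quotient.mk I (single m 1)) := by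
  have h := hI C (x.comp (Ideal.Quotient.mkₐ L I)) (y.comp (Ideal.Quotient.mkₐ L I))
    (fun g hg => by
      rw [RingHom.mem_ker, AlgHom.comp_apply, Ideal.Quotient.mkₐ_eq_mk, Ideal.Quotient.eq_zero_iff_mem.mpr hg, map_zero])
    (fun g hg => by
      rw [RingHom.mem_ker, AlgHom.comp_apply, Ideal.Quotient.mkₐ_eq_mk, Ideal.Quotient.eq_zero_iff_mem.mpr hg, map_zero])
  refine ⟨Ideal.Quotient.liftₐ I (conv (x.comp (Ideal.Quotient.mkₐ L I)) (y.comp (Ideal.Quotient.mkₐ L I)))
    (fun g hg => h hg), fun m => ?_⟩
  show conv _ _ (single m 1) = _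
  rw [conv_single]
  rfl

/-- the comultiplication of the subgroup -/
theorem exists_comul (hI : ConvClosed I) :
    ∃ D : (MonoidAlgebra L M ⧸ I) →ₐ[L] (MonoidAlgebra L M ⧸ I) ⊗[L] (MonoidAlgebra L M ⧸ I),
      ∀ m : M, D (Ideal.Quotient.mk I (single m 1)) =
        Ideal.Quotient.mk I (single m 1) ⊗ₜ Ideal.Quotient.mk I (single m 1) := by
  obtain ⟨D, hD⟩ := exists_prod_point hI ((MonoidAlgebra L M ⧸ I) ⊗[L] (MonoidAlgebra L M ⧸ I))
    Algebra.TensorProduct.includeLeft Algebra.TensorProduct.includeRight
  refine ⟨D, fun m => ?_⟩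
  rw [hD, Algebra.TensorProduct.includeLeft_apply, Algebra.TensorProduct.includeRight_apply,
    Algebra.TensorProduct.tmul_mul_tmul, _root_.mul_one, _root_.one_mul]

variable (I) in
/-- the characters vanishing on the subgroup -/
def charKer : Subgroup M where
  carrier := {m | single m 1 - 1 ∈ I}
  one_mem' := by simp [← MonoidAlgebra.one_def]
  mul_mem' := by
    intro a b (ha : _ ∈ I) (hb : _ ∈ I)
    show _ ∈ I
    have : single (a * b) (1 : L) - 1 = single a 1 * (single b 1 - 1) + (single a 1 - 1) := by
      rw [mul_sub, single_mul_single, mul_one, mul_one]; ring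
    rw [this]
    exact add_mem (Ideal.mul_mem_left _ _ hb) ha
  inv_mem' := by
    intro a (ha : _ ∈ I)
    show _ ∈ I
    have : single a⁻¹ (1 : L) - 1 = -(single a⁻¹ 1) * (single a 1 - 1) := by
      rw [neg_mul, mul_sub, single_mul_single, inv_mul_cancel, mul_one, ← MonoidAlgebra.one_def, mul_one, neg_sub]
    rw [this]
    exact Ideal.mul_mem_left _ _ ha

theorem linearIndepOn_chars (hI : ConvClosed I) (hne : I ≠ ⊤) (s : Finset (MonoidAlgebra L M ⧸ I))
    (hs : ∀ q ∈ s, ∃ m : M, Ideal.Quotient.mk I (single m 1) = q) :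
    LinearIndepOn L id (s : Set (MonoidAlgebra L M ⧸ I)) := by
  classical
  obtain ⟨D, hD⟩ := exists_comul hI
  haveI : Nontrivial (MonoidAlgebra L M ⧸ I) := Ideal.Quotient.nontrivial_iff.mpr hne
  induction s using Finset.induction with
  | empty => simp
  | @insert a s has ih =>
    have hs' : ∀ q ∈ s, ∃ m : M, Ideal.Quotient.mk I (single m 1) = q := fun q hq => hs q (Finset.mem_insert_of_mem hq)
    have hind := ih hs'
    rw [Finset.coe_insert]
    refine hind.id_insert fun hspan => ?_
    have hDa : ∀ q ∈ insert a s, D q = q ⊗ₜ q := fun q hq => by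
      obtain ⟨m, rfl⟩ := hs q hq
      exact hD m
    obtain ⟨c, -, hc⟩ := Submodule.mem_span_finset.mp hspan
    have hind2 := hind.tmul_of_isDomain hind
    have e1 : D a = ∑ p ∈ s ×ˢ s, (if p.1 = p.2 then c p.1 else 0) • (p.1 ⊗ₜ[L] p.2) := by
      rw [← hc, map_sum, Finset.sum_product]
      refine Finset.sum_congr rfl fun b hb => ?_
      rw [map_smul, hDa b (Finset.mem_insert_of_mem hb), Finset.sum_eq_single b (fun d _ hd => by
        rw [if_neg (fun h => hd h.symm), zero_smul]) (fun h => absurd hb h), if_pos rfl]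
    have e2 : D a = ∑ p ∈ s ×ˢ s, (c p.1 * c p.2) • (p.1 ⊗ₜ[L] p.2) := by
      rw [hDa a (Finset.mem_insert_self a s), ← hc, TensorProduct.sum_tmul, Finset.sum_product]
      refine Finset.sum_congr rfl fun b _ => ?_
      rw [TensorProduct.tmul_sum]
      refine Finset.sum_congr rfl fun d _ => ?_
      rw [TensorProduct.smul_tmul_smul]
    have hcoef : ∀ p ∈ s ×ˢ s, (if p.1 = p.2 then c p.1 else 0) - c p.1 * c p.2 = 0 := by
      have h0 : ∑ p ∈ s ×ˢ s, ((if p.1 = p.2 then c p.1 else 0) - c p.1 * c p.2) • (p.1 ⊗ₜ[L] p.2) = 0 := by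
        rw [Finset.sum_congr rfl (fun p _ => sub_smul (if p.1 = p.2 then c p.1 else 0) (c p.1 * c p.2) (p.1 ⊗ₜ[L] p.2)), Finset.sum_sub_distrib,
          ← e1, ← e2, sub_self]
      rw [← Finset.coe_product] at hind2
      exact linearIndepOn_finset_iff.mp hind2 _ h0
    have ha1 : ∃ b ∈ s, c b ≠ 0 := by
      by_contra h
      push Not at h
      obtain ⟨m, hm⟩ := hs a (Finset.mem_insert_self a s)
      have : IsUnit a := hm ▸ ((Group.isUnit m).map (MonoidAlgebra.of L M)).map (Ideal.Quotient.mk I)
      refine this.ne_zero ?_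
      rw [← hc]
      exact Finset.sum_eq_zero fun b hb => by rw [h b hb, zero_smul]
    obtain ⟨b, hb, hcb⟩ := ha1
    have hb1 : c b = 1 := by
      have := hcoef (b, b) (Finset.mk_mem_product hb hb)
      rw [if_pos rfl] at this
      rw [sub_eq_zero] at this
      exact mul_left_cancel₀ hcb (this.symm.trans (mul_one _).symm)
    have hab : a = b := by
      rw [← hc, Finset.sum_eq_single b (fun d hd hne => ?_) (fun h => absurd hb h), hb1, one_smul]
      have := hcoef (d, b) (Finset.mk_mem_product hd hb)
      simp only [if_neg hne, zero_sub, neg_eq_zero, hb1, mul_one] at this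
      rw [this, zero_smul]
    exact has (hab ▸ hb)

theorem le_ker_quotient (hI : ConvClosed I) :
    I = ⊤ ∨ I ≤ RingHom.ker (mapDomainRingHom L (QuotientGroup.mk' (charKer I))) := by
  classical
  by_cases hne : I = ⊤
  · exact Or.inl hne
  refine Or.inr fun g hg => ?_
  let v : M ⧸ charKer I → MonoidAlgebra L M ⧸ I := fun q => Ideal.Quotient.mk I (single q.out 1)
  have hv : ∀ m : M, Ideal.Quotient.mk I (single m 1) = v (QuotientGroup.mk' (charKer I) m) := by
    intro m
    have hmem : (m : M)⁻¹ * (QuotientGroup.mk' (charKer I) m).out ∈ charKer I :=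
      QuotientGroup.eq.mp (Quotient.out_eq' (QuotientGroup.mk' (charKer I) m)).symm
    rw [Ideal.Quotient.eq]
    have : single m (1 : L) - single (QuotientGroup.mk' (charKer I) m).out 1 =
        -(single m 1) * (single (m⁻¹ * (QuotientGroup.mk' (charKer I) m).out) 1 - 1) := by
      rw [neg_mul, mul_sub, single_mul_single, mul_inv_cancel_left, mul_one, mul_one, neg_sub]
    rw [this]
    exact Ideal.mul_mem_left _ _ hmem
  have hinj : Function.Injective v := by
    intro a b h
    rw [← Quotient.out_eq' a, ← Quotient.out_eq' b]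
    refine QuotientGroup.eq.mpr ?_
    show _ ∈ I
    have : single (a.out⁻¹ * b.out) (1 : L) - 1 = -(single a.out⁻¹ 1) * (single a.out 1 - single b.out 1) := by
      rw [neg_mul, mul_sub, single_mul_single, single_mul_single, inv_mul_cancel, mul_one, ← MonoidAlgebra.one_def,
        neg_sub]
    rw [this]
    exact Ideal.mul_mem_left _ _ (Ideal.Quotient.eq.mp h)
  let φ := mapDomainRingHom L (QuotientGroup.mk' (charKer I))
  have hlin : ∀ z : MonoidAlgebra L M, Ideal.Quotient.mk I z = (φ z).coeff.sum fun q r => r • v q := by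
    intro z
    induction z using MonoidAlgebra.induction_linear with
    | zero => simp
    | add x y hx hy =>
      rw [map_add, map_add, MonoidAlgebra.coeff_add,
        Finsupp.sum_add_index' (h := fun q r => r • v q) (fun _ => zero_smul _ _) (fun _ _ _ => add_smul _ _ _), hx, hy]
    | single m r =>
      simp only [φ, mapDomainRingHom_apply, mapDomain_single]
      rw [MonoidAlgebra.sum_single_index (h := fun q r => r • v q) (zero_smul _ _), ← hv]
      rw [show (single m r : MonoidAlgebra L M) = r • single m 1 by simp]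
      exact map_smul (Ideal.Quotient.mkₐ L I) r _
  rw [RingHom.mem_ker]
  have h0 := hlin g
  rw [Ideal.Quotient.eq_zero_iff_mem.mpr hg] at h0
  refine MonoidAlgebra.ext (Finsupp.ext fun q => ?_)
  by_contra hq
  have hq' : q ∈ (φ g).coeff.support := Finsupp.mem_support_iff.mpr hq
  have hind := linearIndepOn_chars hI hne ((φ g).coeff.support.image v) (fun x hx => by
    obtain ⟨p, -, rfl⟩ := Finset.mem_image.mp hx
    exact ⟨p.out, rfl⟩)
  have h1 := linearIndepOn_finset_iff.mp hind (fun x => (φ g).coeff (Function.invFun v x)) (by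
    rw [Finset.sum_image fun a _ b _ h => hinj h]
    simp only [id_eq, Function.leftInverse_invFun hinj _]
    exact h0.symm) (v q) (Finset.mem_image_of_mem v hq')
  rw [Function.leftInverse_invFun hinj] at h1
  exact hq h1

theorem augI_le_of_torsion [Group.FG M] (hI : ConvClosed I) (haug : I ≤ augI L M)
    (h : ∀ n, 0 < n → augI L (Qn M n) ≤ I.map (mapDomainRingHom L (QuotientGroup.mk' (powMonoidHom n : M →* M).range))) :
    augI L M ≤ I := by
  have hle : I ≤ RingHom.ker (mapDomainRingHom L (QuotientGroup.mk' (charKer I))) :=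
    (le_ker_quotient hI).resolve_left fun e => by
      have h1 : (1 : MonoidAlgebra L M) ∈ augI L M := haug (e ▸ Submodule.mem_top)
      rw [mem_augI_iff, show (1 : MonoidAlgebra L M) = single 1 1 from MonoidAlgebra.one_def,
        MonoidAlgebra.lift_single, MonoidHom.one_apply, one_smul] at h1
      exact one_ne_zero h1
  refine augI_le_span L M I fun m => ?_
  show m ∈ charKer I
  by_contra hm
  haveI : Group.FG (M ⧸ charKer I) := inferInstance
  let x : M ⧸ charKer I := QuotientGroup.mk' (charKer I) m
  obtain ⟨n, hn, hxn⟩ := FactLocus.exists_notMem_range_pow (x := x) fun e => hm ((QuotientGroup.eq_one_iff m).mp e)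
  let r : Qn M n →* Qn (M ⧸ charKer I) n :=
    QuotientGroup.map _ _ (QuotientGroup.mk' (charKer I)) (by
      rintro _ ⟨y, rfl⟩
      exact ⟨QuotientGroup.mk' (charKer I) y, (map_pow _ _ _).symm⟩)
  let ψ := mapDomainRingHom L r
  have h1 : I.map (mapDomainRingHom L (QuotientGroup.mk' (powMonoidHom n : M →* M).range)) ≤ RingHom.ker ψ := by
    refine Ideal.map_le_iff_le_comap.mpr fun g hg => ?_
    show ψ (mapDomainRingHom L _ g) = 0
    have e : ψ.comp (mapDomainRingHom L (QuotientGroup.mk' (powMonoidHom n : M →* M).range)) =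
        (mapDomainRingHom L (QuotientGroup.mk' (powMonoidHom n : M ⧸ charKer I →* M ⧸ charKer I).range)).comp
          (mapDomainRingHom L (QuotientGroup.mk' (charKer I))) :=
      MonoidAlgebra.ringHom_ext (fun a => by simp [ψ]) (fun a => by simp [ψ, r])
    rw [← RingHom.comp_apply, e, RingHom.comp_apply, RingHom.mem_ker.mp (hle hg), map_zero]
  have h2 := h1 (h n hn (single_sub_one_mem_augI L (QuotientGroup.mk' (powMonoidHom n : M →* M).range m)))
  rw [RingHom.mem_ker, map_sub, map_one, sub_eq_zero] at h2
  simp only [ψ, mapDomainRingHom_apply, mapDomain_single, MonoidAlgebra.one_def] at h2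
  exact hxn ((QuotientGroup.eq_one_iff x).mp (MonoidAlgebra.single_left_injective one_ne_zero h2))

end Groth.Agent.MonoLocus
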