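import Groth.Agent.MonoLocus.Field

/-!
A closed subgroup of `D(M)` which is trivial on one fibre is trivial above a neighbourhood of that point.
-/

universe u

open Groth.Agent.DiagGrp Groth.Agent.FactLocus MonoidAlgebra

set_option linter.style.haveILetI false
set_option backward.isDefEq.respectTransparency false

noncomputable section

namespace Groth.Agent.MonoLocus

variable {A : Type u} [CommRing A] {M : Type} [CommGroup M]

theorem augI_fg [Group.FG M] : (augI A M).FG := by
  classical
  obtain ⟨G, hG⟩ := Group.FG.out (G := M)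
  let J : Ideal (MonoidAlgebra A M) := Ideal.span ((G.image fun m => single m (1 : A) - 1) : Finset (MonoidAlgebra A M))
  have hJ : J ≤ augI A M := Ideal.span_le.mpr fun x hx => by
    obtain ⟨m, -, rfl⟩ := Finset.mem_image.mp hx
    exact single_sub_one_mem_augI A m
  refine ⟨_, le_antisymm hJ (augI_le_span A M J fun m => ?_)⟩
  let χ : M →* (MonoidAlgebra A M ⧸ J)ˣ :=
    (((Ideal.Quotient.mk J : MonoidAlgebra A M →+* _) : MonoidAlgebra A M →* _).comp (MonoidAlgebra.of A M)).toHomUnits
  have hker : Subgroup.closure (G : Set M) ≤ χ.ker := (Subgroup.closure_le _).mpr fun a ha => by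
    refine Units.ext ?_
    show Ideal.Quotient.mk J (single a 1) = 1
    rw [← map_one (Ideal.Quotient.mk J), Ideal.Quotient.eq]
    exact Ideal.subset_span (Finset.mem_image_of_mem (fun m => single m (1 : A) - 1) ha)
  have hm : χ m = 1 := hker (hG ▸ Subgroup.mem_top m)
  have h1 : Ideal.Quotient.mk J (single m 1) = 1 := congrArg Units.val hm
  rwa [← map_one (Ideal.Quotient.mk J), Ideal.Quotient.eq] at h1

/-- the elements carrying the augmentation ideal into `I` -/
abbrev annI (I : Ideal (MonoidAlgebra A M)) : Ideal (MonoidAlgebra A M) :=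
  Submodule.colon I (augI A M : Set (MonoidAlgebra A M))

theorem mem_annI {I : Ideal (MonoidAlgebra A M)} {c : MonoidAlgebra A M} :
    c ∈ annI I ↔ ∀ g ∈ augI A M, c * g ∈ I := Submodule.mem_colon

/-- `I` is the augmentation ideal on the fibre at `q` -/
def HypAt (I : Ideal (MonoidAlgebra A M)) (q : Ideal A) : Prop :=
  ∀ g ∈ augI A M, ∃ a ∉ q, single 1 a * g ∈ I ⊔ q.map (algebraMap A (MonoidAlgebra A M))

theorem single_one_eq_algebraMap (a : A) : (single 1 a : MonoidAlgebra A M) = algebraMap A _ a := rfl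

theorem exists_sub_mem_mul (q : Ideal A) (j : MonoidAlgebra A M) (hj : j ∈ q.map (algebraMap A (MonoidAlgebra A M))) :
    j - algebraMap A _ (MonoidAlgebra.lift A A M (1 : M →* A) j) ∈
      q.map (algebraMap A (MonoidAlgebra A M)) * augI A M := by
  induction hj using Submodule.span_induction with
  | mem x hx =>
    obtain ⟨a, -, rfl⟩ := hx
    rw [AlgHom.commutes]
    simp
  | zero => simp
  | add x y _ _ hx hy =>
    rw [map_add, map_add, add_sub_add_comm]
    exact add_mem hx hy
  | smul r x hx0 hx =>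
    have hr : r - algebraMap A _ (MonoidAlgebra.lift A A M (1 : M →* A) r) ∈ augI A M := by
      rw [mem_augI_iff, map_sub, AlgHom.commutes]
      simp
    have e : r • x - algebraMap A _ (MonoidAlgebra.lift A A M (1 : M →* A) (r • x)) =
        x * (r - algebraMap A _ (MonoidAlgebra.lift A A M (1 : M →* A) r)) +
          algebraMap A _ (MonoidAlgebra.lift A A M (1 : M →* A) r) *
            (x - algebraMap A _ (MonoidAlgebra.lift A A M (1 : M →* A) x)) := by
      rw [smul_eq_mul, map_mul, map_mul]; ring
    rw [e]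
    exact add_mem (Ideal.mul_mem_mul hx0 hr) (Ideal.mul_mem_left _ _ hx)

theorem not_annI_le [Group.FG M] {I : Ideal (MonoidAlgebra A M)} (hI : I ≤ augI A M) {q : Ideal A}
    (h : HypAt I q) (P : Ideal (MonoidAlgebra A M)) [P.IsPrime] (hP : P.comap (algebraMap A (MonoidAlgebra A M)) = q) :
    ¬ annI I ≤ P := by
  classical
  intro hle
  let B := Localization.AtPrime P
  let φ := algebraMap (MonoidAlgebra A M) B
  let m := IsLocalRing.maximalIdeal B
  have hmP : P.map φ = m := Localization.AtPrime.map_eq_maximalIdeal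
  have key : (augI A M).map φ ≤ I.map φ ⊔ m • (augI A M).map φ := Ideal.map_le_iff_le_comap.mpr fun g hg => by
    obtain ⟨a, ha, hga⟩ := h g hg
    obtain ⟨i, hi, j, hj, e⟩ := Submodule.mem_sup.mp hga
    have hεj : MonoidAlgebra.lift A A M (1 : M →* A) j = 0 := by
      have := congrArg (MonoidAlgebra.lift A A M (1 : M →* A)) e
      rw [map_add, map_mul, (mem_augI_iff i).mp (hI hi), (mem_augI_iff g).mp hg, zero_add, mul_zero] at this
      exact this
    have hj' := exists_sub_mem_mul q j hj
    rw [hεj, map_zero, sub_zero] at hj'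
    have hu : IsUnit (φ (single 1 a)) :=
      IsLocalization.map_units B (⟨single 1 a, fun hmem => ha (by rw [← hP]; exact hmem)⟩ : P.primeCompl)
    obtain ⟨u, hu⟩ := hu
    have h1 : φ (single 1 a * g) ∈ I.map φ ⊔ m • (augI A M).map φ := by
      rw [← e, map_add]
      refine add_mem (Ideal.mem_sup_left (Ideal.mem_map_of_mem _ hi)) (Ideal.mem_sup_right ?_)
      have h2 := Ideal.mem_map_of_mem φ hj'
      rw [Ideal.map_mul] at h2
      refine Ideal.mul_mono ?_ le_rfl h2
      rw [← hmP]
      exact Ideal.map_mono (Ideal.map_le_iff_le_comap.mpr hP.ge)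
    rw [map_mul, ← hu] at h1
    have h3 := Ideal.mul_mem_left _ (↑u⁻¹ : B) h1
    rwa [← _root_.mul_assoc, Units.inv_mul, _root_.one_mul] at h3
  have hmain : (augI A M).map φ ≤ I.map φ :=
    Submodule.le_of_le_smul_of_le_jacobson_bot (augI_fg.map φ) (IsLocalRing.maximalIdeal_le_jacobson _) key
  have hx : ∀ g ∈ augI A M, ∃ c ∉ P, c * g ∈ I := fun g hg => by
    obtain ⟨⟨i, c⟩, e⟩ := (IsLocalization.mem_map_algebraMap_iff P.primeCompl B).mp (hmain (Ideal.mem_map_of_mem φ hg))
    rw [← map_mul] at e
    obtain ⟨d, hd⟩ := (IsLocalization.eq_iff_exists P.primeCompl B).mp e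
    refine ⟨d * c, fun h => (‹P.IsPrime›.mem_or_mem h).elim d.2 c.2, ?_⟩
    have : (d : MonoidAlgebra A M) * c * g = d * (g * c) := by ring
    rw [this, hd]
    exact Ideal.mul_mem_left _ _ i.2
  obtain ⟨F, hF⟩ := augI_fg (A := A) (M := M)
  choose c hc hcg using fun g : F => hx g (hF ▸ Submodule.subset_span g.2)
  have hprod : ∏ g : F, c g ∈ annI I := mem_annI.mpr fun g hg => by
    rw [← hF] at hg
    induction hg using Submodule.span_induction with
    | mem y hy =>
      rw [← Finset.prod_erase_mul (a := (⟨y, hy⟩ : F)) Finset.univ _ (Finset.mem_univ _), _root_.mul_assoc]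
      exact Ideal.mul_mem_left _ _ (hcg ⟨y, hy⟩)
    | zero => simp
    | add y z _ _ hy hz => rw [mul_add]; exact add_mem hy hz
    | smul r y _ hy => rw [smul_eq_mul, mul_left_comm]; exact Ideal.mul_mem_left _ _ hy
  obtain ⟨g, -, hg⟩ := (‹P.IsPrime›.prod_mem_iff).mp (hle hprod)
  exact hc g hg

theorem map_qn_le_augI (I : Ideal (MonoidAlgebra A M)) (hI : I ≤ augI A M) {N : Type} [CommGroup N] (r : M →* N) :
    I.map (mapDomainRingHom A r) ≤ augI A N := by
  refine Ideal.map_le_iff_le_comap.mpr fun g hg => ?_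
  show MonoidAlgebra.lift A A N (1 : N →* A) (MonoidAlgebra.mapDomainAlgHom A A r g) = 0
  rw [← AlgHom.comp_apply, show (MonoidAlgebra.lift A A N (1 : N →* A)).comp (MonoidAlgebra.mapDomainAlgHom A A r) =
    MonoidAlgebra.lift A A M (1 : M →* A) from Groth.Agent.DiagAction.algHom_ext_single fun m => by simp]
  exact hI hg

theorem hypAt_map (I : Ideal (MonoidAlgebra A M)) {q : Ideal A} [q.IsPrime] (h : HypAt I q) {N : Type} [CommGroup N]
    (r : M →* N) (hr : Function.Surjective r) : HypAt (I.map (mapDomainRingHom A r)) q := by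
  have hle : augI A N ≤ (augI A M).map (mapDomainRingHom A r) := augI_le_span A N _ fun x => by
    obtain ⟨m, rfl⟩ := hr x
    have := Ideal.mem_map_of_mem (mapDomainRingHom A r) (single_sub_one_mem_augI A m)
    rw [map_sub, map_one, mapDomainRingHom_apply, mapDomain_single] at this; exact this
  intro g hg
  have h1 : g ∈ (augI A M).map (mapDomainRingHom A r) := hle hg
  induction h1 using Submodule.span_induction with
  | mem y hy =>
    obtain ⟨g', hg', rfl⟩ := hy
    obtain ⟨a, ha, hga⟩ := h g' hg'
    refine ⟨a, ha, ?_⟩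
    have h2 := Ideal.mem_map_of_mem (mapDomainRingHom A r) hga
    rw [Ideal.map_sup, Ideal.map_map, map_mul] at h2
    have e1 : (mapDomainRingHom A r).comp (algebraMap A (MonoidAlgebra A M)) = algebraMap A (MonoidAlgebra A N) :=
      (MonoidAlgebra.mapDomainAlgHom A A r).comp_algebraMap
    rw [e1] at h2
    simpa using h2
  | zero => exact ⟨1, (‹q.IsPrime›).ne_top ∘ (Ideal.eq_top_iff_one q).mpr, by simp⟩
  | add y z hy hz iy iz =>
    have hN : ∀ w, w ∈ Submodule.span (MonoidAlgebra A N) (mapDomainRingHom A r '' (augI A M : Set (MonoidAlgebra A M))) →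
        w ∈ augI A N := fun w hw => map_qn_le_augI (augI A M) le_rfl r hw
    obtain ⟨a, ha, ea⟩ := iy (hN y hy)
    obtain ⟨b, hb, eb⟩ := iz (hN z hz)
    refine ⟨a * b, fun hm => (‹q.IsPrime›.mem_or_mem hm).elim ha hb, ?_⟩
    have e : (single 1 (a * b) : MonoidAlgebra A N) * (y + z) =
        single 1 b * (single 1 a * y) + single 1 a * (single 1 b * z) := by
      simp only [single_one_eq_algebraMap, map_mul]; ring
    rw [e]
    exact add_mem (Ideal.mul_mem_left _ _ ea) (Ideal.mul_mem_left _ _ eb)
  | smul c y hy iy =>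
    have hN : y ∈ augI A N := map_qn_le_augI (augI A M) le_rfl r hy
    obtain ⟨a, ha, ea⟩ := iy hN
    refine ⟨a, ha, ?_⟩
    rw [smul_eq_mul, mul_left_comm]
    exact Ideal.mul_mem_left _ _ ea

theorem sub_mem_of_coeff {q : Ideal A} (z : MonoidAlgebra A M) (hz : ∀ m, z.coeff m ∈ q) :
    z ∈ q.map (algebraMap A (MonoidAlgebra A M)) := by
  rw [← MonoidAlgebra.sum_coeff_single z]
  refine Submodule.sum_mem _ fun m _ => ?_
  rw [show (single m (z.coeff m) : MonoidAlgebra A M) = single m 1 * algebraMap A _ (z.coeff m) by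
    rw [← single_one_eq_algebraMap, single_mul_single, mul_one, one_mul]]
  exact Ideal.mul_mem_left _ _ (Ideal.mem_map_of_mem _ (hz m))

theorem convClosed_map {I : Ideal (MonoidAlgebra A M)} (hI : ConvClosed I) (L : Type u) [CommRing L] [Algebra A L] :
    ConvClosed (I.map (mapRingHom M (algebraMap A L))) := by
  intro C _ _ x y hx hy
  letI : Algebra A C := ((algebraMap L C).comp (algebraMap A L)).toAlgebra
  haveI : IsScalarTower A L C := IsScalarTower.of_algebraMap_eq fun _ => rfl
  have hincl : (incl A L M : MonoidAlgebra A M →+* MonoidAlgebra L M) = mapRingHom M (algebraMap A L) :=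
    MonoidAlgebra.ringHom_ext (fun r => by simp [incl, Algebra.smul_def]) (fun m => by simp)
  rw [← hincl] at hx hy ⊢
  have hx' := Ideal.map_le_iff_le_comap.mp hx
  have hy' := Ideal.map_le_iff_le_comap.mp hy
  refine Ideal.map_le_iff_le_comap.mpr ?_
  have h := hI C ((x.restrictScalars A).comp (incl A L M)) ((y.restrictScalars A).comp (incl A L M)) hx' hy'
  have e : conv ((x.restrictScalars A).comp (incl A L M)) ((y.restrictScalars A).comp (incl A L M)) =
      ((conv x y).restrictScalars A).comp (incl A L M) :=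
    Groth.Agent.DiagAction.algHom_ext_single fun m => by simp [conv_single]
  rw [e] at h
  exact h

instance finite_qn' [Group.FG M] (n : ℕ) [NeZero n] : Finite (Qn M n) :=
  CommGroup.finite_of_fg_torsion (Qn M n) fun x => isOfFinOrder_iff_pow_eq_one.mpr ⟨n, NeZero.pos n, by
    induction x using QuotientGroup.induction_on with
    | H y => rw [← QuotientGroup.mk_pow]; exact (QuotientGroup.eq_one_iff _).mpr ⟨y, rfl⟩⟩

theorem hypAt_of_le [Group.FG M] {I : Ideal (MonoidAlgebra A M)} (hI : I ≤ augI A M) (hconv : ConvClosed I)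
    {p q : Ideal A} [p.IsPrime] [q.IsPrime] (hqp : q ≤ p) (hp : HypAt I p) : HypAt I q := by
  classical
  let L := q.ResidueField
  let φ : MonoidAlgebra A M →+* MonoidAlgebra L M := mapRingHom M (algebraMap A L)
  have hIL : I.map φ ≤ augI L M := Ideal.map_le_iff_le_comap.mpr fun g hg => by
    show MonoidAlgebra.lift L L M (1 : M →* L) (φ g) = 0
    have e : (MonoidAlgebra.lift L L M (1 : M →* L) : MonoidAlgebra L M →+* L).comp φ =
        (algebraMap A L).comp (MonoidAlgebra.lift A A M (1 : M →* A) : MonoidAlgebra A M →+* A) :=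
      MonoidAlgebra.ringHom_ext (fun r => by simp [φ]) (fun m => by simp [φ])
    have := RingHom.congr_fun e g
    simp only [RingHom.comp_apply, RingHom.coe_coe, (mem_augI_iff g).mp (hI hg), map_zero] at this
    exact this
  have htor : ∀ n, 0 < n → augI L (Qn M n) ≤
      (I.map φ).map (mapDomainRingHom L (QuotientGroup.mk' (powMonoidHom n : M →* M).range)) := by
    intro n hn
    haveI : NeZero n := ⟨hn.ne'⟩
    let r := QuotientGroup.mk' (powMonoidHom n : M →* M).range
    let In : Ideal (MonoidAlgebra A (Qn M n)) := I.map (mapDomainRingHom A r)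
    let ψ : MonoidAlgebra A (Qn M n) →+* MonoidAlgebra L (Qn M n) := mapRingHom _ (algebraMap A L)
    haveI : Module.Finite A (MonoidAlgebra A (Qn M n)) := Module.Finite.equiv (MonoidAlgebra.coeffLinearEquiv A).symm
    haveI : Algebra.IsIntegral A (MonoidAlgebra A (Qn M n)) := Algebra.IsIntegral.of_finite A _
    have hInaug : In ≤ augI A (Qn M n) := map_qn_le_augI I hI r
    have htop : (annI In).map ψ = ⊤ := by
      by_contra hne
      obtain ⟨P, hP, hle⟩ := Ideal.exists_le_maximal _ hne
      haveI := hP.isPrime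
      let P₀ := P.comap ψ
      have hq : P₀.comap (algebraMap A (MonoidAlgebra A (Qn M n))) = q := by
        rw [Ideal.comap_comap, show ψ.comp (algebraMap A (MonoidAlgebra A (Qn M n))) =
          (algebraMap L (MonoidAlgebra L (Qn M n))).comp (algebraMap A L) from RingHom.ext fun a => by simp [ψ],
          ← Ideal.comap_comap, show P.comap (algebraMap L (MonoidAlgebra L (Qn M n))) = ⊥ from
            ((Ideal.eq_bot_or_top _).resolve_right (Ideal.IsPrime.ne_top inferInstance))]
        exact Ideal.ker_algebraMap_residueField q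
      obtain ⟨Q, hQ, hQp, hQc⟩ := Ideal.exists_ideal_over_prime_of_isIntegral p P₀ (hq.trans_le hqp)
      haveI := hQp
      exact not_annI_le hInaug (hypAt_map I hp r (QuotientGroup.mk'_surjective _)) Q hQc
        ((Ideal.map_le_iff_le_comap.mp hle).trans hQ)
    rw [Ideal.map_map, show (mapDomainRingHom L r).comp φ = ψ.comp (mapDomainRingHom A r) from
      MonoidAlgebra.ringHom_ext (fun a => by simp [φ, ψ]) (fun m => by simp [φ, ψ]), ← Ideal.map_map]
    refine augI_le_span L _ _ fun x => ?_
    have h1 : (1 : MonoidAlgebra L (Qn M n)) ∈ (annI In).map ψ := htop ▸ Submodule.mem_top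
    have h2 : (annI In).map ψ ≤ Submodule.colon (In.map ψ) {single x (1 : L) - 1} :=
      Ideal.map_le_iff_le_comap.mpr fun c hc => by
        rw [Ideal.mem_comap, Submodule.mem_colon_singleton, smul_eq_mul]
        have h3 := Ideal.mem_map_of_mem ψ (mem_annI.mp hc _ (single_sub_one_mem_augI A x))
        rwa [map_mul, map_sub, map_one, show ψ (single x 1) = single x 1 by simp [ψ]] at h3
    simpa [smul_eq_mul] using Submodule.mem_colon_singleton.mp (h2 h1)
  have hmain : augI L M ≤ I.map φ := augI_le_of_torsion (convClosed_map hconv L) hIL htor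
  intro g hg
  have h1 : φ g ∈ I.map φ := hmain (by
    have e : (MonoidAlgebra.lift L L M (1 : M →* L) : MonoidAlgebra L M →+* L).comp φ =
        (algebraMap A L).comp (MonoidAlgebra.lift A A M (1 : M →* A) : MonoidAlgebra A M →+* A) :=
      MonoidAlgebra.ringHom_ext (fun r => by simp [φ]) (fun m => by simp [φ])
    show MonoidAlgebra.lift L L M (1 : M →* L) (φ g) = 0
    have := RingHom.congr_fun e g
    simp only [RingHom.comp_apply, RingHom.coe_coe, (mem_augI_iff g).mp hg, map_zero] at this
    exact this)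
  obtain ⟨a, ha, j, hj, e⟩ := FactLocus.exists_scalar_mem (algebraMap A L) q (fun b => by
    obtain ⟨b', rfl⟩ := IsLocalRing.residue_surjective b
    obtain ⟨⟨x, s, hs⟩, hb⟩ := IsLocalization.surj q.primeCompl b'
    refine ⟨x, s, hs, ?_⟩
    have := congrArg (IsLocalRing.residue (Localization.AtPrime q)) hb
    rw [map_mul] at this
    exact this) I (φ g) h1
  refine ⟨a, ha, ?_⟩
  have : single 1 a * g = j + (single 1 a * g - j) := by ring
  rw [this]
  refine add_mem (Ideal.mem_sup_left hj) (Ideal.mem_sup_right (sub_mem_of_coeff _ fun m => ?_))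
  have h2 : φ (single 1 a * g - j) = 0 := by
    rw [map_sub, map_mul, e, show φ (single 1 a) = single 1 (algebraMap A L a) by simp [φ], mul_comm, sub_self]
  have h3 := congrArg (fun w => w.coeff m) h2
  simp only [φ, coeff_mapRingHom, Finsupp.mapRange_apply, MonoidAlgebra.coeff_zero, Finsupp.zero_apply] at h3
  exact Ideal.algebraMap_residueField_eq_zero.mp h3

/-- trivial on the fibre at `p` implies trivial near `p` -/
theorem exists_scalar_mem_annI [Group.FG M] {I : Ideal (MonoidAlgebra A M)} (hI : I ≤ augI A M) (hconv : ConvClosed I)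
    (p : Ideal A) [p.IsPrime] (hp : HypAt I p) :
    ∃ a ∉ p, ∀ g ∈ augI A M, single 1 a * g ∈ I := by
  classical
  let φ : MonoidAlgebra A M →+* MonoidAlgebra (Localization.AtPrime p) M := mapRingHom M (algebraMap A _)
  have htop : (annI I).map φ = ⊤ := by
    by_contra hne
    obtain ⟨P, hP, hle⟩ := Ideal.exists_le_maximal _ hne
    haveI := hP.isPrime
    have hq : (P.comap φ).comap (algebraMap A (MonoidAlgebra A M)) ≤ p := fun a ha => by
      by_contra hap
      refine hP.ne_top (Ideal.eq_top_of_isUnit_mem _ (show φ (algebraMap A _ a) ∈ P from ha) ?_)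
      rw [show φ (algebraMap A _ a) = algebraMap (Localization.AtPrime p) (MonoidAlgebra (Localization.AtPrime p) M) (algebraMap A _ a) by simp [φ]]
      exact (IsLocalization.map_units _ (⟨a, hap⟩ : p.primeCompl)).map _
    exact not_annI_le hI (hypAt_of_le hI hconv hq hp) (P.comap φ) rfl (Ideal.map_le_iff_le_comap.mp hle)
  obtain ⟨a₁, ha₁, j, hj, e⟩ := FactLocus.exists_scalar_mem (algebraMap A (Localization.AtPrime p)) p (fun b => by
    obtain ⟨⟨x, s, hs⟩, hb⟩ := IsLocalization.surj p.primeCompl b
    exact ⟨x, s, hs, hb⟩) (annI I) 1 (htop ▸ Submodule.mem_top)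
  let d := j - single 1 a₁
  have hdz : ∀ m, algebraMap A (Localization.AtPrime p) (d.coeff m) = 0 := fun m => by
    have h2 : φ d = 0 := by rw [map_sub, e, show φ (single 1 a₁) = single 1 (algebraMap A _ a₁) by simp [φ], one_mul, sub_self]
    have h3 := congrArg (fun w => w.coeff m) h2
    simp only [φ, coeff_mapRingHom, Finsupp.mapRange_apply, MonoidAlgebra.coeff_zero, Finsupp.zero_apply] at h3
    exact h3
  choose s hs using fun m => (IsLocalization.map_eq_zero_iff p.primeCompl _ (d.coeff m)).mp (hdz m)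
  let a₂ : A := ∏ m ∈ d.coeff.support, (s m : A)
  refine ⟨a₁ * a₂, fun h => (‹p.IsPrime›.mem_or_mem h).elim ha₁ fun h2 => ?_, fun g hg => ?_⟩
  · obtain ⟨m, -, hm⟩ := (‹p.IsPrime›.prod_mem_iff).mp h2
    exact (s m).2 hm
  · have h0 : d * single 1 a₂ = 0 := MonoidAlgebra.ext (Finsupp.ext fun m => by
      rw [MonoidAlgebra.coeff_mul_single_one]
      by_cases hm : m ∈ d.coeff.support
      · simp only [a₂, MonoidAlgebra.coeff_zero, Finsupp.zero_apply]
        rw [← Finset.prod_erase_mul d.coeff.support _ hm, mul_left_comm, mul_comm _ (s m : A), hs m, mul_zero]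
      · simp [Finsupp.notMem_support_iff.mp hm])
    rw [sub_mul, sub_eq_zero, single_mul_single, one_mul] at h0
    rw [← h0, mul_comm j, _root_.mul_assoc]
    exact Ideal.mul_mem_left _ _ (mem_annI.mp hj g hg)

end Groth.Agent.MonoLocus
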